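/-! Data for the hexacode: its words packed in base 4, and monomial witnesses (inverse image list, scalars). -/

set_option maxRecDepth 4000

namespace Cfsg.Agent.Hexacode

def hexList : List Nat := [
  0, 3771, 2013, 2406, 3051, 1360, 3126, 653, 3453, 966, 2720, 1051, 1686, 2093, 331, 4080,
  3006, 1285, 3171, 728, 85, 3822, 1928, 2355, 1731, 2168, 286, 4005, 3368, 915, 2805, 1102,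
  3543, 876, 2570, 1201, 1596, 2183, 481, 3930, 170, 3601, 1911, 2508, 2881, 1530, 3228, 551,
  1641, 2258, 436, 3855, 3458, 825, 2655, 1252, 2836, 1455, 3273, 626, 255, 3652, 1826, 2457]

def witList0 : List (List Nat × List Nat) := [
  ([0, 1, 2, 3, 4, 5], [1, 1, 1, 1, 1, 1]), ([0, 1, 2, 5, 3, 4], [1, 2, 3, 3, 3, 3]),
  ([0, 1, 2, 4, 5, 3], [1, 3, 2, 2, 2, 2]), ([0, 1, 3, 2, 5, 4], [1, 1, 1, 1, 1, 1]),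
  ([0, 1, 4, 2, 3, 5], [1, 3, 2, 2, 2, 2]), ([0, 1, 5, 2, 4, 3], [1, 2, 3, 3, 3, 3]),
  ([0, 1, 3, 4, 2, 5], [1, 2, 3, 3, 3, 3]), ([0, 1, 5, 3, 2, 4], [1, 3, 2, 2, 2, 2]),
  ([0, 1, 4, 5, 2, 3], [1, 1, 1, 1, 1, 1]), ([0, 1, 3, 5, 4, 2], [1, 3, 2, 2, 2, 2]),
  ([0, 1, 4, 3, 5, 2], [1, 2, 3, 3, 3, 3]), ([0, 1, 5, 4, 3, 2], [1, 1, 1, 1, 1, 1]),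
  ([0, 2, 1, 3, 5, 4], [1, 1, 1, 1, 2, 3]), ([0, 2, 1, 4, 3, 5], [1, 2, 3, 2, 3, 1]),
  ([0, 2, 1, 5, 4, 3], [1, 3, 2, 3, 1, 2]), ([0, 3, 1, 2, 4, 5], [1, 1, 1, 1, 2, 3]),
  ([0, 5, 1, 2, 3, 4], [1, 3, 2, 3, 1, 2]), ([0, 4, 1, 2, 5, 3], [1, 2, 3, 2, 3, 1]),
  ([0, 3, 1, 5, 2, 4], [1, 2, 3, 2, 3, 1]), ([0, 4, 1, 3, 2, 5], [1, 3, 2, 3, 1, 2]),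
  ([0, 5, 1, 4, 2, 3], [1, 1, 1, 1, 2, 3]), ([0, 3, 1, 4, 5, 2], [1, 3, 2, 3, 1, 2]),
  ([0, 5, 1, 3, 4, 2], [1, 2, 3, 2, 3, 1]), ([0, 4, 1, 5, 3, 2], [1, 1, 1, 1, 2, 3]),
  ([0, 2, 3, 1, 4, 5], [1, 1, 1, 1, 3, 2]), ([0, 2, 5, 1, 3, 4], [1, 3, 3, 2, 2, 1]),
  ([0, 2, 4, 1, 5, 3], [1, 2, 2, 3, 1, 3]), ([0, 3, 2, 1, 5, 4], [1, 1, 1, 1, 3, 2]),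
  ([0, 4, 2, 1, 3, 5], [1, 2, 2, 3, 1, 3]), ([0, 5, 2, 1, 4, 3], [1, 3, 3, 2, 2, 1]),
  ([0, 3, 4, 1, 2, 5], [1, 3, 3, 2, 2, 1]), ([0, 5, 3, 1, 2, 4], [1, 2, 2, 3, 1, 3]),
  ([0, 4, 5, 1, 2, 3], [1, 1, 1, 1, 3, 2]), ([0, 3, 5, 1, 4, 2], [1, 2, 2, 3, 1, 3]),
  ([0, 4, 3, 1, 5, 2], [1, 3, 3, 2, 2, 1]), ([0, 5, 4, 1, 3, 2], [1, 1, 1, 1, 3, 2]),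
  ([0, 2, 3, 5, 1, 4], [1, 2, 3, 1, 3, 2]), ([0, 2, 4, 3, 1, 5], [1, 3, 1, 2, 2, 3]),
  ([0, 2, 5, 4, 1, 3], [1, 1, 2, 3, 1, 1]), ([0, 3, 2, 4, 1, 5], [1, 2, 3, 1, 3, 2]),
  ([0, 5, 2, 3, 1, 4], [1, 1, 2, 3, 1, 1]), ([0, 4, 2, 5, 1, 3], [1, 3, 1, 2, 2, 3]),
  ([0, 3, 5, 2, 1, 4], [1, 3, 1, 2, 2, 3]), ([0, 4, 3, 2, 1, 5], [1, 1, 2, 3, 1, 1]),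
  ([0, 5, 4, 2, 1, 3], [1, 2, 3, 1, 3, 2]), ([0, 3, 4, 5, 1, 2], [1, 1, 2, 3, 1, 1]),
  ([0, 5, 3, 4, 1, 2], [1, 3, 1, 2, 2, 3]), ([0, 4, 5, 3, 1, 2], [1, 2, 3, 1, 3, 2]),
  ([0, 2, 3, 4, 5, 1], [1, 3, 2, 1, 3, 2]), ([0, 2, 5, 3, 4, 1], [1, 2, 1, 3, 2, 3]),
  ([0, 2, 4, 5, 3, 1], [1, 1, 3, 2, 1, 1]), ([0, 3, 2, 5, 4, 1], [1, 3, 2, 1, 3, 2]),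
  ([0, 4, 2, 3, 5, 1], [1, 1, 3, 2, 1, 1]), ([0, 5, 2, 4, 3, 1], [1, 2, 1, 3, 2, 3]),
  ([0, 3, 4, 2, 5, 1], [1, 2, 1, 3, 2, 3]), ([0, 5, 3, 2, 4, 1], [1, 1, 3, 2, 1, 1]),
  ([0, 4, 5, 2, 3, 1], [1, 3, 2, 1, 3, 2]), ([0, 3, 5, 4, 2, 1], [1, 1, 3, 2, 1, 1]),
  ([0, 4, 3, 5, 2, 1], [1, 2, 1, 3, 2, 3]), ([0, 5, 4, 3, 2, 1], [1, 3, 2, 1, 3, 2])]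

def witList60 : List (List Nat × List Nat) := [
  ([1, 0, 2, 3, 5, 4], [1, 1, 1, 1, 1, 1]), ([1, 0, 2, 4, 3, 5], [1, 2, 3, 3, 3, 3]),
  ([1, 0, 2, 5, 4, 3], [1, 3, 2, 2, 2, 2]), ([1, 0, 3, 2, 4, 5], [1, 1, 1, 1, 1, 1]),
  ([1, 0, 5, 2, 3, 4], [1, 3, 2, 2, 2, 2]), ([1, 0, 4, 2, 5, 3], [1, 2, 3, 3, 3, 3]),
  ([1, 0, 3, 5, 2, 4], [1, 2, 3, 3, 3, 3]), ([1, 0, 4, 3, 2, 5], [1, 3, 2, 2, 2, 2]),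
  ([1, 0, 5, 4, 2, 3], [1, 1, 1, 1, 1, 1]), ([1, 0, 3, 4, 5, 2], [1, 3, 2, 2, 2, 2]),
  ([1, 0, 5, 3, 4, 2], [1, 2, 3, 3, 3, 3]), ([1, 0, 4, 5, 3, 2], [1, 1, 1, 1, 1, 1]),
  ([2, 0, 1, 3, 4, 5], [1, 1, 1, 1, 3, 2]), ([2, 0, 1, 5, 3, 4], [1, 2, 3, 1, 3, 2]),
  ([2, 0, 1, 4, 5, 3], [1, 3, 2, 1, 3, 2]), ([3, 0, 1, 2, 5, 4], [1, 1, 1, 1, 3, 2]),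
  ([4, 0, 1, 2, 3, 5], [1, 3, 2, 1, 3, 2]), ([5, 0, 1, 2, 4, 3], [1, 2, 3, 1, 3, 2]),
  ([3, 0, 1, 4, 2, 5], [1, 2, 3, 1, 3, 2]), ([5, 0, 1, 3, 2, 4], [1, 3, 2, 1, 3, 2]),
  ([4, 0, 1, 5, 2, 3], [1, 1, 1, 1, 3, 2]), ([3, 0, 1, 5, 4, 2], [1, 3, 2, 1, 3, 2]),
  ([4, 0, 1, 3, 5, 2], [1, 2, 3, 1, 3, 2]), ([5, 0, 1, 4, 3, 2], [1, 1, 1, 1, 3, 2]),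
  ([2, 0, 3, 1, 5, 4], [1, 1, 1, 1, 2, 3]), ([2, 0, 4, 1, 3, 5], [1, 3, 1, 2, 2, 3]),
  ([2, 0, 5, 1, 4, 3], [1, 2, 1, 3, 2, 3]), ([3, 0, 2, 1, 4, 5], [1, 1, 1, 1, 2, 3]),
  ([5, 0, 2, 1, 3, 4], [1, 2, 1, 3, 2, 3]), ([4, 0, 2, 1, 5, 3], [1, 3, 1, 2, 2, 3]),
  ([3, 0, 5, 1, 2, 4], [1, 3, 1, 2, 2, 3]), ([4, 0, 3, 1, 2, 5], [1, 2, 1, 3, 2, 3]),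
  ([5, 0, 4, 1, 2, 3], [1, 1, 1, 1, 2, 3]), ([3, 0, 4, 1, 5, 2], [1, 2, 1, 3, 2, 3]),
  ([5, 0, 3, 1, 4, 2], [1, 3, 1, 2, 2, 3]), ([4, 0, 5, 1, 3, 2], [1, 1, 1, 1, 2, 3]),
  ([2, 0, 3, 4, 1, 5], [1, 2, 3, 2, 3, 1]), ([2, 0, 5, 3, 1, 4], [1, 3, 3, 2, 2, 1]),
  ([2, 0, 4, 5, 1, 3], [1, 1, 3, 2, 1, 1]), ([3, 0, 2, 5, 1, 4], [1, 2, 3, 2, 3, 1]),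
  ([4, 0, 2, 3, 1, 5], [1, 1, 3, 2, 1, 1]), ([5, 0, 2, 4, 1, 3], [1, 3, 3, 2, 2, 1]),
  ([3, 0, 4, 2, 1, 5], [1, 3, 3, 2, 2, 1]), ([5, 0, 3, 2, 1, 4], [1, 1, 3, 2, 1, 1]),
  ([4, 0, 5, 2, 1, 3], [1, 2, 3, 2, 3, 1]), ([3, 0, 5, 4, 1, 2], [1, 1, 3, 2, 1, 1]),
  ([4, 0, 3, 5, 1, 2], [1, 3, 3, 2, 2, 1]), ([5, 0, 4, 3, 1, 2], [1, 2, 3, 2, 3, 1]),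
  ([2, 0, 3, 5, 4, 1], [1, 3, 2, 3, 1, 2]), ([2, 0, 4, 3, 5, 1], [1, 2, 2, 3, 1, 3]),
  ([2, 0, 5, 4, 3, 1], [1, 1, 2, 3, 1, 1]), ([3, 0, 2, 4, 5, 1], [1, 3, 2, 3, 1, 2]),
  ([5, 0, 2, 3, 4, 1], [1, 1, 2, 3, 1, 1]), ([4, 0, 2, 5, 3, 1], [1, 2, 2, 3, 1, 3]),
  ([3, 0, 5, 2, 4, 1], [1, 2, 2, 3, 1, 3]), ([4, 0, 3, 2, 5, 1], [1, 1, 2, 3, 1, 1]),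
  ([5, 0, 4, 2, 3, 1], [1, 3, 2, 3, 1, 2]), ([3, 0, 4, 5, 2, 1], [1, 1, 2, 3, 1, 1]),
  ([5, 0, 3, 4, 2, 1], [1, 2, 2, 3, 1, 3]), ([4, 0, 5, 3, 2, 1], [1, 3, 2, 3, 1, 2])]

def witList120 : List (List Nat × List Nat) := [
  ([1, 2, 0, 3, 4, 5], [1, 1, 1, 1, 2, 3]), ([1, 2, 0, 5, 3, 4], [1, 2, 3, 2, 3, 1]),
  ([1, 2, 0, 4, 5, 3], [1, 3, 2, 3, 1, 2]), ([1, 3, 0, 2, 5, 4], [1, 1, 1, 1, 2, 3]),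
  ([1, 4, 0, 2, 3, 5], [1, 3, 2, 3, 1, 2]), ([1, 5, 0, 2, 4, 3], [1, 2, 3, 2, 3, 1]),
  ([1, 3, 0, 4, 2, 5], [1, 2, 3, 2, 3, 1]), ([1, 5, 0, 3, 2, 4], [1, 3, 2, 3, 1, 2]),
  ([1, 4, 0, 5, 2, 3], [1, 1, 1, 1, 2, 3]), ([1, 3, 0, 5, 4, 2], [1, 3, 2, 3, 1, 2]),
  ([1, 4, 0, 3, 5, 2], [1, 2, 3, 2, 3, 1]), ([1, 5, 0, 4, 3, 2], [1, 1, 1, 1, 2, 3]),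
  ([2, 1, 0, 3, 5, 4], [1, 1, 1, 1, 3, 2]), ([2, 1, 0, 4, 3, 5], [1, 2, 3, 1, 3, 2]),
  ([2, 1, 0, 5, 4, 3], [1, 3, 2, 1, 3, 2]), ([3, 1, 0, 2, 4, 5], [1, 1, 1, 1, 3, 2]),
  ([5, 1, 0, 2, 3, 4], [1, 3, 2, 1, 3, 2]), ([4, 1, 0, 2, 5, 3], [1, 2, 3, 1, 3, 2]),
  ([3, 1, 0, 5, 2, 4], [1, 2, 3, 1, 3, 2]), ([4, 1, 0, 3, 2, 5], [1, 3, 2, 1, 3, 2]),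
  ([5, 1, 0, 4, 2, 3], [1, 1, 1, 1, 3, 2]), ([3, 1, 0, 4, 5, 2], [1, 3, 2, 1, 3, 2]),
  ([5, 1, 0, 3, 4, 2], [1, 2, 3, 1, 3, 2]), ([4, 1, 0, 5, 3, 2], [1, 1, 1, 1, 3, 2]),
  ([2, 3, 0, 1, 4, 5], [1, 1, 1, 1, 1, 1]), ([2, 5, 0, 1, 3, 4], [1, 1, 2, 3, 1, 1]),
  ([2, 4, 0, 1, 5, 3], [1, 1, 3, 2, 1, 1]), ([3, 2, 0, 1, 5, 4], [1, 1, 1, 1, 1, 1]),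
  ([4, 2, 0, 1, 3, 5], [1, 1, 3, 2, 1, 1]), ([5, 2, 0, 1, 4, 3], [1, 1, 2, 3, 1, 1]),
  ([3, 4, 0, 1, 2, 5], [1, 1, 2, 3, 1, 1]), ([5, 3, 0, 1, 2, 4], [1, 1, 3, 2, 1, 1]),
  ([4, 5, 0, 1, 2, 3], [1, 1, 1, 1, 1, 1]), ([3, 5, 0, 1, 4, 2], [1, 1, 3, 2, 1, 1]),
  ([4, 3, 0, 1, 5, 2], [1, 1, 2, 3, 1, 1]), ([5, 4, 0, 1, 3, 2], [1, 1, 1, 1, 1, 1]),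
  ([2, 3, 0, 5, 1, 4], [1, 2, 3, 3, 3, 3]), ([2, 4, 0, 3, 1, 5], [1, 2, 2, 3, 1, 3]),
  ([2, 5, 0, 4, 1, 3], [1, 2, 1, 3, 2, 3]), ([3, 2, 0, 4, 1, 5], [1, 2, 3, 3, 3, 3]),
  ([5, 2, 0, 3, 1, 4], [1, 2, 1, 3, 2, 3]), ([4, 2, 0, 5, 1, 3], [1, 2, 2, 3, 1, 3]),
  ([3, 5, 0, 2, 1, 4], [1, 2, 2, 3, 1, 3]), ([4, 3, 0, 2, 1, 5], [1, 2, 1, 3, 2, 3]),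
  ([5, 4, 0, 2, 1, 3], [1, 2, 3, 3, 3, 3]), ([3, 4, 0, 5, 1, 2], [1, 2, 1, 3, 2, 3]),
  ([5, 3, 0, 4, 1, 2], [1, 2, 2, 3, 1, 3]), ([4, 5, 0, 3, 1, 2], [1, 2, 3, 3, 3, 3]),
  ([2, 3, 0, 4, 5, 1], [1, 3, 2, 2, 2, 2]), ([2, 5, 0, 3, 4, 1], [1, 3, 3, 2, 2, 1]),
  ([2, 4, 0, 5, 3, 1], [1, 3, 1, 2, 2, 3]), ([3, 2, 0, 5, 4, 1], [1, 3, 2, 2, 2, 2]),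
  ([4, 2, 0, 3, 5, 1], [1, 3, 1, 2, 2, 3]), ([5, 2, 0, 4, 3, 1], [1, 3, 3, 2, 2, 1]),
  ([3, 4, 0, 2, 5, 1], [1, 3, 3, 2, 2, 1]), ([5, 3, 0, 2, 4, 1], [1, 3, 1, 2, 2, 3]),
  ([4, 5, 0, 2, 3, 1], [1, 3, 2, 2, 2, 2]), ([3, 5, 0, 4, 2, 1], [1, 3, 1, 2, 2, 3]),
  ([4, 3, 0, 5, 2, 1], [1, 3, 3, 2, 2, 1]), ([5, 4, 0, 3, 2, 1], [1, 3, 2, 2, 2, 2])]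

def witList180 : List (List Nat × List Nat) := [
  ([1, 2, 3, 0, 5, 4], [1, 1, 1, 1, 3, 2]), ([1, 2, 4, 0, 3, 5], [1, 3, 3, 2, 2, 1]),
  ([1, 2, 5, 0, 4, 3], [1, 2, 2, 3, 1, 3]), ([1, 3, 2, 0, 4, 5], [1, 1, 1, 1, 3, 2]),
  ([1, 5, 2, 0, 3, 4], [1, 2, 2, 3, 1, 3]), ([1, 4, 2, 0, 5, 3], [1, 3, 3, 2, 2, 1]),
  ([1, 3, 5, 0, 2, 4], [1, 3, 3, 2, 2, 1]), ([1, 4, 3, 0, 2, 5], [1, 2, 2, 3, 1, 3]),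
  ([1, 5, 4, 0, 2, 3], [1, 1, 1, 1, 3, 2]), ([1, 3, 4, 0, 5, 2], [1, 2, 2, 3, 1, 3]),
  ([1, 5, 3, 0, 4, 2], [1, 3, 3, 2, 2, 1]), ([1, 4, 5, 0, 3, 2], [1, 1, 1, 1, 3, 2]),
  ([2, 1, 3, 0, 4, 5], [1, 1, 1, 1, 2, 3]), ([2, 1, 5, 0, 3, 4], [1, 3, 1, 2, 2, 3]),
  ([2, 1, 4, 0, 5, 3], [1, 2, 1, 3, 2, 3]), ([3, 1, 2, 0, 5, 4], [1, 1, 1, 1, 2, 3]),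
  ([4, 1, 2, 0, 3, 5], [1, 2, 1, 3, 2, 3]), ([5, 1, 2, 0, 4, 3], [1, 3, 1, 2, 2, 3]),
  ([3, 1, 4, 0, 2, 5], [1, 3, 1, 2, 2, 3]), ([5, 1, 3, 0, 2, 4], [1, 2, 1, 3, 2, 3]),
  ([4, 1, 5, 0, 2, 3], [1, 1, 1, 1, 2, 3]), ([3, 1, 5, 0, 4, 2], [1, 2, 1, 3, 2, 3]),
  ([4, 1, 3, 0, 5, 2], [1, 3, 1, 2, 2, 3]), ([5, 1, 4, 0, 3, 2], [1, 1, 1, 1, 2, 3]),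
  ([2, 3, 1, 0, 5, 4], [1, 1, 1, 1, 1, 1]), ([2, 4, 1, 0, 3, 5], [1, 1, 2, 3, 1, 1]),
  ([2, 5, 1, 0, 4, 3], [1, 1, 3, 2, 1, 1]), ([3, 2, 1, 0, 4, 5], [1, 1, 1, 1, 1, 1]),
  ([5, 2, 1, 0, 3, 4], [1, 1, 3, 2, 1, 1]), ([4, 2, 1, 0, 5, 3], [1, 1, 2, 3, 1, 1]),
  ([3, 5, 1, 0, 2, 4], [1, 1, 2, 3, 1, 1]), ([4, 3, 1, 0, 2, 5], [1, 1, 3, 2, 1, 1]),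
  ([5, 4, 1, 0, 2, 3], [1, 1, 1, 1, 1, 1]), ([3, 4, 1, 0, 5, 2], [1, 1, 3, 2, 1, 1]),
  ([5, 3, 1, 0, 4, 2], [1, 1, 2, 3, 1, 1]), ([4, 5, 1, 0, 3, 2], [1, 1, 1, 1, 1, 1]),
  ([2, 3, 4, 0, 1, 5], [1, 3, 2, 2, 2, 2]), ([2, 5, 3, 0, 1, 4], [1, 3, 2, 3, 1, 2]),
  ([2, 4, 5, 0, 1, 3], [1, 3, 2, 1, 3, 2]), ([3, 2, 5, 0, 1, 4], [1, 3, 2, 2, 2, 2]),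
  ([4, 2, 3, 0, 1, 5], [1, 3, 2, 1, 3, 2]), ([5, 2, 4, 0, 1, 3], [1, 3, 2, 3, 1, 2]),
  ([3, 4, 2, 0, 1, 5], [1, 3, 2, 3, 1, 2]), ([5, 3, 2, 0, 1, 4], [1, 3, 2, 1, 3, 2]),
  ([4, 5, 2, 0, 1, 3], [1, 3, 2, 2, 2, 2]), ([3, 5, 4, 0, 1, 2], [1, 3, 2, 1, 3, 2]),
  ([4, 3, 5, 0, 1, 2], [1, 3, 2, 3, 1, 2]), ([5, 4, 3, 0, 1, 2], [1, 3, 2, 2, 2, 2]),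
  ([2, 3, 5, 0, 4, 1], [1, 2, 3, 3, 3, 3]), ([2, 4, 3, 0, 5, 1], [1, 2, 3, 2, 3, 1]),
  ([2, 5, 4, 0, 3, 1], [1, 2, 3, 1, 3, 2]), ([3, 2, 4, 0, 5, 1], [1, 2, 3, 3, 3, 3]),
  ([5, 2, 3, 0, 4, 1], [1, 2, 3, 1, 3, 2]), ([4, 2, 5, 0, 3, 1], [1, 2, 3, 2, 3, 1]),
  ([3, 5, 2, 0, 4, 1], [1, 2, 3, 2, 3, 1]), ([4, 3, 2, 0, 5, 1], [1, 2, 3, 1, 3, 2]),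
  ([5, 4, 2, 0, 3, 1], [1, 2, 3, 3, 3, 3]), ([3, 4, 5, 0, 2, 1], [1, 2, 3, 1, 3, 2]),
  ([5, 3, 4, 0, 2, 1], [1, 2, 3, 2, 3, 1]), ([4, 5, 3, 0, 2, 1], [1, 2, 3, 3, 3, 3])]

def witList240 : List (List Nat × List Nat) := [
  ([1, 2, 3, 4, 0, 5], [1, 2, 3, 1, 3, 2]), ([1, 2, 5, 3, 0, 4], [1, 3, 1, 2, 2, 3]),
  ([1, 2, 4, 5, 0, 3], [1, 1, 2, 3, 1, 1]), ([1, 3, 2, 5, 0, 4], [1, 2, 3, 1, 3, 2]),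
  ([1, 4, 2, 3, 0, 5], [1, 1, 2, 3, 1, 1]), ([1, 5, 2, 4, 0, 3], [1, 3, 1, 2, 2, 3]),
  ([1, 3, 4, 2, 0, 5], [1, 3, 1, 2, 2, 3]), ([1, 5, 3, 2, 0, 4], [1, 1, 2, 3, 1, 1]),
  ([1, 4, 5, 2, 0, 3], [1, 2, 3, 1, 3, 2]), ([1, 3, 5, 4, 0, 2], [1, 1, 2, 3, 1, 1]),
  ([1, 4, 3, 5, 0, 2], [1, 3, 1, 2, 2, 3]), ([1, 5, 4, 3, 0, 2], [1, 2, 3, 1, 3, 2]),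
  ([2, 1, 3, 5, 0, 4], [1, 2, 3, 2, 3, 1]), ([2, 1, 4, 3, 0, 5], [1, 3, 3, 2, 2, 1]),
  ([2, 1, 5, 4, 0, 3], [1, 1, 3, 2, 1, 1]), ([3, 1, 2, 4, 0, 5], [1, 2, 3, 2, 3, 1]),
  ([5, 1, 2, 3, 0, 4], [1, 1, 3, 2, 1, 1]), ([4, 1, 2, 5, 0, 3], [1, 3, 3, 2, 2, 1]),
  ([3, 1, 5, 2, 0, 4], [1, 3, 3, 2, 2, 1]), ([4, 1, 3, 2, 0, 5], [1, 1, 3, 2, 1, 1]),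
  ([5, 1, 4, 2, 0, 3], [1, 2, 3, 2, 3, 1]), ([3, 1, 4, 5, 0, 2], [1, 1, 3, 2, 1, 1]),
  ([5, 1, 3, 4, 0, 2], [1, 3, 3, 2, 2, 1]), ([4, 1, 5, 3, 0, 2], [1, 2, 3, 2, 3, 1]),
  ([2, 3, 1, 4, 0, 5], [1, 2, 3, 3, 3, 3]), ([2, 5, 1, 3, 0, 4], [1, 2, 2, 3, 1, 3]),
  ([2, 4, 1, 5, 0, 3], [1, 2, 1, 3, 2, 3]), ([3, 2, 1, 5, 0, 4], [1, 2, 3, 3, 3, 3]),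
  ([4, 2, 1, 3, 0, 5], [1, 2, 1, 3, 2, 3]), ([5, 2, 1, 4, 0, 3], [1, 2, 2, 3, 1, 3]),
  ([3, 4, 1, 2, 0, 5], [1, 2, 2, 3, 1, 3]), ([5, 3, 1, 2, 0, 4], [1, 2, 1, 3, 2, 3]),
  ([4, 5, 1, 2, 0, 3], [1, 2, 3, 3, 3, 3]), ([3, 5, 1, 4, 0, 2], [1, 2, 1, 3, 2, 3]),
  ([4, 3, 1, 5, 0, 2], [1, 2, 2, 3, 1, 3]), ([5, 4, 1, 3, 0, 2], [1, 2, 3, 3, 3, 3]),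
  ([2, 3, 5, 1, 0, 4], [1, 3, 2, 2, 2, 2]), ([2, 4, 3, 1, 0, 5], [1, 3, 2, 3, 1, 2]),
  ([2, 5, 4, 1, 0, 3], [1, 3, 2, 1, 3, 2]), ([3, 2, 4, 1, 0, 5], [1, 3, 2, 2, 2, 2]),
  ([5, 2, 3, 1, 0, 4], [1, 3, 2, 1, 3, 2]), ([4, 2, 5, 1, 0, 3], [1, 3, 2, 3, 1, 2]),
  ([3, 5, 2, 1, 0, 4], [1, 3, 2, 3, 1, 2]), ([4, 3, 2, 1, 0, 5], [1, 3, 2, 1, 3, 2]),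
  ([5, 4, 2, 1, 0, 3], [1, 3, 2, 2, 2, 2]), ([3, 4, 5, 1, 0, 2], [1, 3, 2, 1, 3, 2]),
  ([5, 3, 4, 1, 0, 2], [1, 3, 2, 3, 1, 2]), ([4, 5, 3, 1, 0, 2], [1, 3, 2, 2, 2, 2]),
  ([2, 3, 4, 5, 0, 1], [1, 1, 1, 1, 1, 1]), ([2, 5, 3, 4, 0, 1], [1, 1, 1, 1, 2, 3]),
  ([2, 4, 5, 3, 0, 1], [1, 1, 1, 1, 3, 2]), ([3, 2, 5, 4, 0, 1], [1, 1, 1, 1, 1, 1]),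
  ([4, 2, 3, 5, 0, 1], [1, 1, 1, 1, 3, 2]), ([5, 2, 4, 3, 0, 1], [1, 1, 1, 1, 2, 3]),
  ([3, 4, 2, 5, 0, 1], [1, 1, 1, 1, 2, 3]), ([5, 3, 2, 4, 0, 1], [1, 1, 1, 1, 3, 2]),
  ([4, 5, 2, 3, 0, 1], [1, 1, 1, 1, 1, 1]), ([3, 5, 4, 2, 0, 1], [1, 1, 1, 1, 3, 2]),
  ([4, 3, 5, 2, 0, 1], [1, 1, 1, 1, 2, 3]), ([5, 4, 3, 2, 0, 1], [1, 1, 1, 1, 1, 1])]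

def witList300 : List (List Nat × List Nat) := [
  ([1, 2, 3, 5, 4, 0], [1, 3, 2, 1, 3, 2]), ([1, 2, 4, 3, 5, 0], [1, 2, 1, 3, 2, 3]),
  ([1, 2, 5, 4, 3, 0], [1, 1, 3, 2, 1, 1]), ([1, 3, 2, 4, 5, 0], [1, 3, 2, 1, 3, 2]),
  ([1, 5, 2, 3, 4, 0], [1, 1, 3, 2, 1, 1]), ([1, 4, 2, 5, 3, 0], [1, 2, 1, 3, 2, 3]),
  ([1, 3, 5, 2, 4, 0], [1, 2, 1, 3, 2, 3]), ([1, 4, 3, 2, 5, 0], [1, 1, 3, 2, 1, 1]),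
  ([1, 5, 4, 2, 3, 0], [1, 3, 2, 1, 3, 2]), ([1, 3, 4, 5, 2, 0], [1, 1, 3, 2, 1, 1]),
  ([1, 5, 3, 4, 2, 0], [1, 2, 1, 3, 2, 3]), ([1, 4, 5, 3, 2, 0], [1, 3, 2, 1, 3, 2]),
  ([2, 1, 3, 4, 5, 0], [1, 3, 2, 3, 1, 2]), ([2, 1, 5, 3, 4, 0], [1, 2, 2, 3, 1, 3]),
  ([2, 1, 4, 5, 3, 0], [1, 1, 2, 3, 1, 1]), ([3, 1, 2, 5, 4, 0], [1, 3, 2, 3, 1, 2]),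
  ([4, 1, 2, 3, 5, 0], [1, 1, 2, 3, 1, 1]), ([5, 1, 2, 4, 3, 0], [1, 2, 2, 3, 1, 3]),
  ([3, 1, 4, 2, 5, 0], [1, 2, 2, 3, 1, 3]), ([5, 1, 3, 2, 4, 0], [1, 1, 2, 3, 1, 1]),
  ([4, 1, 5, 2, 3, 0], [1, 3, 2, 3, 1, 2]), ([3, 1, 5, 4, 2, 0], [1, 1, 2, 3, 1, 1]),
  ([4, 1, 3, 5, 2, 0], [1, 2, 2, 3, 1, 3]), ([5, 1, 4, 3, 2, 0], [1, 3, 2, 3, 1, 2]),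
  ([2, 3, 1, 5, 4, 0], [1, 3, 2, 2, 2, 2]), ([2, 4, 1, 3, 5, 0], [1, 3, 3, 2, 2, 1]),
  ([2, 5, 1, 4, 3, 0], [1, 3, 1, 2, 2, 3]), ([3, 2, 1, 4, 5, 0], [1, 3, 2, 2, 2, 2]),
  ([5, 2, 1, 3, 4, 0], [1, 3, 1, 2, 2, 3]), ([4, 2, 1, 5, 3, 0], [1, 3, 3, 2, 2, 1]),
  ([3, 5, 1, 2, 4, 0], [1, 3, 3, 2, 2, 1]), ([4, 3, 1, 2, 5, 0], [1, 3, 1, 2, 2, 3]),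
  ([5, 4, 1, 2, 3, 0], [1, 3, 2, 2, 2, 2]), ([3, 4, 1, 5, 2, 0], [1, 3, 1, 2, 2, 3]),
  ([5, 3, 1, 4, 2, 0], [1, 3, 3, 2, 2, 1]), ([4, 5, 1, 3, 2, 0], [1, 3, 2, 2, 2, 2]),
  ([2, 3, 4, 1, 5, 0], [1, 2, 3, 3, 3, 3]), ([2, 5, 3, 1, 4, 0], [1, 2, 3, 2, 3, 1]),
  ([2, 4, 5, 1, 3, 0], [1, 2, 3, 1, 3, 2]), ([3, 2, 5, 1, 4, 0], [1, 2, 3, 3, 3, 3]),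
  ([4, 2, 3, 1, 5, 0], [1, 2, 3, 1, 3, 2]), ([5, 2, 4, 1, 3, 0], [1, 2, 3, 2, 3, 1]),
  ([3, 4, 2, 1, 5, 0], [1, 2, 3, 2, 3, 1]), ([5, 3, 2, 1, 4, 0], [1, 2, 3, 1, 3, 2]),
  ([4, 5, 2, 1, 3, 0], [1, 2, 3, 3, 3, 3]), ([3, 5, 4, 1, 2, 0], [1, 2, 3, 1, 3, 2]),
  ([4, 3, 5, 1, 2, 0], [1, 2, 3, 2, 3, 1]), ([5, 4, 3, 1, 2, 0], [1, 2, 3, 3, 3, 3]),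
  ([2, 3, 5, 4, 1, 0], [1, 1, 1, 1, 1, 1]), ([2, 4, 3, 5, 1, 0], [1, 1, 1, 1, 2, 3]),
  ([2, 5, 4, 3, 1, 0], [1, 1, 1, 1, 3, 2]), ([3, 2, 4, 5, 1, 0], [1, 1, 1, 1, 1, 1]),
  ([5, 2, 3, 4, 1, 0], [1, 1, 1, 1, 3, 2]), ([4, 2, 5, 3, 1, 0], [1, 1, 1, 1, 2, 3]),
  ([3, 5, 2, 4, 1, 0], [1, 1, 1, 1, 2, 3]), ([4, 3, 2, 5, 1, 0], [1, 1, 1, 1, 3, 2]),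
  ([5, 4, 2, 3, 1, 0], [1, 1, 1, 1, 1, 1]), ([3, 4, 5, 2, 1, 0], [1, 1, 1, 1, 3, 2]),
  ([5, 3, 4, 2, 1, 0], [1, 1, 1, 1, 2, 3]), ([4, 5, 3, 2, 1, 0], [1, 1, 1, 1, 1, 1])]

def witList : List (List Nat × List Nat) := witList0 ++ witList60 ++ witList120 ++ witList180 ++ witList240 ++ witList300

end Cfsg.Agent.Hexacode
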