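import Cfsg.Prelude.Def_SporadicCombinatorics
import Cfsg.Agent.Lib.Codes.HexData

/-! The hexacode over any field with four elements, computed on the symbols `0, 1, 2, 3`. -/

namespace Cfsg.Agent.Hexacode

open Equiv

/-- Words on the four symbols. -/
abbrev V4 := Fin 6 → Fin 4

def mul4 : Fin 4 → Fin 4 → Fin 4 := ![![0, 0, 0, 0], ![0, 1, 2, 3], ![0, 2, 3, 1], ![0, 3, 1, 2]]
def add4 : Fin 4 → Fin 4 → Fin 4 := ![![0, 1, 2, 3], ![1, 0, 3, 2], ![2, 3, 0, 1], ![3, 2, 1, 0]]

def g1 : V4 := ![2, 3, 3, 2, 3, 2]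
def g2 : V4 := ![3, 2, 2, 3, 3, 2]
def g3 : V4 := ![3, 2, 3, 2, 2, 3]

/-- The word with given coefficients. -/
def comb (a b c : Fin 4) : V4 := fun i => add4 (add4 (mul4 a (g1 i)) (mul4 b (g2 i))) (mul4 c (g3 i))

/-- Base 4 code of a word. -/
def enc (v : V4) : ℕ :=
  (v 0 : ℕ) + 4 * ((v 1 : ℕ) + 4 * ((v 2 : ℕ) + 4 * ((v 3 : ℕ) + 4 * ((v 4 : ℕ) + 4 * (v 5 : ℕ)))))

/-- The word with a given code. -/
def dec (n : ℕ) : V4 := fun i => Fin.ofNat 4 (n / 4 ^ (i : ℕ))

/-- Weight of a word. -/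
def wt (v : V4) : ℕ := ((List.finRange 6).filter fun i => v i != 0).length

theorem dec_enc (v : V4) : dec (enc v) = v := by
  have h := fun i => (v i).isLt
  funext i
  apply Fin.ext
  have := h 0; have := h 1; have := h 2; have := h 3; have := h 4; have := h 5
  fin_cases i <;> simp [dec, enc, Fin.ofNat] <;> omega

theorem enc_injective : Function.Injective enc := Function.LeftInverse.injective dec_enc

/-- A word is in the code. -/
def isW (v : V4) : Bool := hexList.contains (enc v)

theorem table :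
    (∀ a b c : Fin 4, isW (comb a b c) = true) ∧
    hexList.all (fun n => Nat.beq (enc (dec n)) n &&
      (List.finRange 4).any fun a => (List.finRange 4).any fun b => (List.finRange 4).any fun c =>
        Nat.beq (enc (comb a b c)) n) = true ∧
    hexList.length = 64 ∧ hexList.Nodup ∧
    hexList.all (fun n => Nat.beq n 0 || Nat.beq (wt (dec n)) 4 || Nat.beq (wt (dec n)) 6) = true ∧
    (hexList.filter fun n => Nat.beq (wt (dec n)) 4).length = 45 ∧
    (hexList.filter fun n => Nat.beq (wt (dec n)) 6).length = 18 := by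
  decide +kernel

theorem dec_isW {n : ℕ} (h : n ∈ hexList) : isW (dec n) = true := by
  have := table.2.1
  rw [List.all_eq_true] at this
  have e := this n h
  rw [Bool.and_eq_true] at e
  rw [isW, Nat.eq_of_beq_eq_true e.1]
  simpa using h

theorem comb_of_isW {v : V4} (h : isW v = true) : ∃ a b c, v = comb a b c := by
  have hn : enc v ∈ hexList := by simpa [isW] using h
  have := table.2.1
  rw [List.all_eq_true] at this
  have e := this _ hn
  simp only [Bool.and_eq_true, List.any_eq_true] at e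
  obtain ⟨a, -, b, -, c, -, e⟩ := e.2
  exact ⟨a, b, c, enc_injective (Nat.eq_of_beq_eq_true e).symm⟩

/-- The monomial map on symbols. -/
def mono (inv : Fin 6 → Fin 6) (c : Fin 6 → Fin 4) (v : V4) : V4 := fun i => mul4 (c i) (v (inv i))

/-- A monomial map carries the three generators into the code. -/
def presGens (inv : Fin 6 → Fin 6) (c : Fin 6 → Fin 4) : Bool :=
  isW (mono inv c g1) && isW (mono inv c g2) && isW (mono inv c g3)

/-- The function given by a list. -/
def getFin {n : ℕ} [NeZero n] (l : List ℕ) : Fin 6 → Fin n := fun i => Fin.ofNat n (l.getD i 0)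

/-- The image list of a permutation. -/
def pl (σ : Perm (Fin 6)) : List ℕ := List.ofFn fun i => (σ i : ℕ)

set_option maxRecDepth 100000 in
theorem wit_table :
    witList.all (fun w => presGens (getFin w.1) (getFin w.2) &&
      (List.finRange 6).all fun i => (getFin w.2 i : Fin 4) != 0) = true ∧
    (∀ σ : Perm (Fin 6), Perm.sign σ = 1 → pl σ.symm ∈ witList.map Prod.fst) := by
  decide +kernel

theorem scalar_table :
    (([1, 2, 3] : List (Fin 4)).all fun a => [1, 2, 3].all fun b => [1, 2, 3].all fun c => [1, 2, 3].all fun d =>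
      [1, 2, 3].all fun e => [1, 2, 3].all fun f =>
        !(presGens ⇑(Equiv.swap (4 : Fin 6) 5) ![a, b, c, d, e, f]) &&
          (!(presGens id ![a, b, c, d, e, f]) || (a == b && a == c && a == d && a == e && a == f))) = true := by
  decide +kernel

theorem scalar_spec {c : Fin 6 → Fin 4} (hc : ∀ i, c i ≠ 0) :
    presGens ⇑(Equiv.swap (4 : Fin 6) 5) c = false ∧ (presGens id c = true → ∀ i, c i = c 0) := by
  have hm : ∀ i, c i ∈ ([1, 2, 3] : List (Fin 4)) := fun i => by
    have : ∀ x : Fin 4, x ≠ 0 → x ∈ ([1, 2, 3] : List (Fin 4)) := by decide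
    exact this _ (hc i)
  have hc' : (![c 0, c 1, c 2, c 3, c 4, c 5] : Fin 6 → Fin 4) = c := by
    funext i; fin_cases i <;> rfl
  have h := scalar_table
  simp only [List.all_eq_true] at h
  have e := h _ (hm 0) _ (hm 1) _ (hm 2) _ (hm 3) _ (hm 4) _ (hm 5)
  rw [hc'] at e
  simp only [Bool.and_eq_true, Bool.not_eq_true', Bool.or_eq_true, beq_iff_eq] at e
  refine ⟨e.1, fun hp i => ?_⟩
  rcases e.2 with e2 | e2
  · rw [hp] at e2; exact absurd e2 (by simp)
  · obtain ⟨⟨⟨⟨e1, e2⟩, e3⟩, e4⟩, e5⟩ := e2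
    fin_cases i <;> simp_all

variable {F : Type*} [Field F] [Fintype F] (hF : Fintype.card F = 4) {ω : F} (hω : ω ^ 2 + ω + 1 = 0)

/-- The field element of a symbol. -/
def ev (ω : F) : Fin 4 → F := ![0, 1, ω, ω ^ 2]

/-- The field word of a symbol word. -/
def evV (ω : F) (v : V4) : Fin 6 → F := fun i => ev ω (v i)

include hF in
theorem two_eq_zero : (2 : F) = 0 := by
  have h : ((Fintype.card F : ℕ) : F) = 0 := FiniteField.cast_card_eq_zero F
  rw [hF] at h
  have h2 : (2 : F) * 2 = 0 := by norm_num; exact_mod_cast h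
  exact mul_self_eq_zero.mp h2

include hF hω

theorem ev_mul (a b : Fin 4) : ev ω (mul4 a b) = ev ω a * ev ω b := by
  fin_cases a <;> fin_cases b <;> simp [ev, mul4] <;> grobner

theorem ev_add (a b : Fin 4) : ev ω (add4 a b) = ev ω a + ev ω b := by
  have h2 := two_eq_zero hF
  fin_cases a <;> fin_cases b <;> simp [ev, add4] <;> grobner

theorem ev_injective : Function.Injective (ev ω) := by
  have h2 := two_eq_zero hF
  have h0 : ω ≠ 0 := fun h => by simp [h] at hω
  have h1 : ω ≠ 1 := fun h => one_ne_zero (α := F) (by grobner)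
  have h3 : ω ^ 2 ≠ 0 := pow_ne_zero _ h0
  have h4 : ω ^ 2 ≠ 1 := fun h => h0 (by grobner)
  have h5 : ω ^ 2 ≠ ω := fun h => one_ne_zero (α := F) (by grobner)
  intro a b h
  fin_cases a <;> fin_cases b <;> simp [ev, h0, h1, h3, h4, h5, h0.symm, h1.symm, h3.symm, h4.symm, h5.symm] at h ⊢

theorem ev_surjective : Function.Surjective (ev ω) :=
  ((Fintype.bijective_iff_injective_and_card _).mpr ⟨ev_injective hF hω, by rw [hF]; rfl⟩).2

theorem ev_zero_iff (a : Fin 4) : ev ω a = 0 ↔ a = 0 :=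
  ⟨fun h => ev_injective hF hω (by rw [h]; rfl), fun h => by rw [h]; rfl⟩

theorem evV_injective : Function.Injective (evV ω) := fun u v h =>
  funext fun i => ev_injective hF hω (congrFun h i)

theorem evV_comb (a b c : Fin 4) :
    evV ω (comb a b c) = ev ω a • evV ω g1 + ev ω b • evV ω g2 + ev ω c • evV ω g3 := by
  funext i
  simp [evV, comb, ev_add hF hω, ev_mul hF hω]

theorem evV_gens : evV ω g1 = ![ω, ω ^ 2, ω ^ 2, ω, ω ^ 2, ω] ∧
    evV ω g2 = ![ω ^ 2, ω, ω, ω ^ 2, ω ^ 2, ω] ∧ evV ω g3 = ![ω ^ 2, ω, ω ^ 2, ω, ω, ω ^ 2] := by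
  refine ⟨?_, ?_, ?_⟩ <;> funext i <;> fin_cases i <;> rfl

theorem mem_iff (x : Fin 6 → F) :
    x ∈ Cfsg.hexacode F ω ↔ ∃ a b c : Fin 4, x = evV ω (comb a b c) := by
  obtain ⟨e1, e2, e3⟩ := evV_gens hF hω
  simp only [Cfsg.hexacode, Submodule.mem_span_insert, Submodule.mem_span_singleton, evV_comb hF hω, e1, e2, e3]
  constructor
  · rintro ⟨a, z, ⟨b, z', ⟨c, rfl⟩, rfl⟩, rfl⟩
    obtain ⟨a, rfl⟩ := ev_surjective hF hω a
    obtain ⟨b, rfl⟩ := ev_surjective hF hω b
    obtain ⟨c, rfl⟩ := ev_surjective hF hω c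
    exact ⟨a, b, c, by rw [add_assoc]⟩
  · rintro ⟨a, b, c, rfl⟩
    exact ⟨_, _, ⟨_, _, ⟨_, rfl⟩, rfl⟩, add_assoc _ _ _⟩

theorem evV_mem_iff (v : V4) : evV ω v ∈ Cfsg.hexacode F ω ↔ isW v = true := by
  rw [mem_iff hF hω]
  constructor
  · rintro ⟨a, b, c, h⟩
    rw [evV_injective hF hω h]
    exact table.1 a b c
  · intro h
    obtain ⟨a, b, c, rfl⟩ := comb_of_isW h
    exact ⟨a, b, c, rfl⟩

/-- The code as the words of the list. -/
noncomputable def equivCode : Cfsg.hexacode F ω ≃ {n // n ∈ hexList} :=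
  (Equiv.ofBijective
    (fun n : {n // n ∈ hexList} => (⟨evV ω (dec n.1), (evV_mem_iff hF hω _).mpr (dec_isW n.2)⟩ : Cfsg.hexacode F ω))
    ⟨fun n m h => by
      have hn := table.2.1
      rw [List.all_eq_true] at hn
      have h' : evV ω (dec n.1) = evV ω (dec m.1) := congrArg Subtype.val h
      have e := congrArg enc (evV_injective hF hω h')
      have e1 := hn _ n.2
      have e2 := hn _ m.2
      rw [Bool.and_eq_true] at e1 e2
      rw [Nat.eq_of_beq_eq_true e1.1, Nat.eq_of_beq_eq_true e2.1] at e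
      exact Subtype.ext e,
    fun x => by
      obtain ⟨a, b, c, h⟩ := (mem_iff hF hω _).mp x.2
      refine ⟨⟨enc (comb a b c), by simpa [isW] using table.1 a b c⟩, Subtype.ext ?_⟩
      simp [dec_enc, h]⟩).symm

theorem natCard_code : Nat.card (Cfsg.hexacode F ω) = 64 := by
  classical
  rw [Nat.card_congr (equivCode hF hω), Nat.card_eq_fintype_card,
    Fintype.card_of_subtype hexList.toFinset (fun x => List.mem_toFinset), List.toFinset_card_of_nodup table.2.2.2.1]
  exact table.2.2.1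

theorem wt_eq [DecidableEq F] (v : V4) : (Finset.univ.filter fun i => evV ω v i ≠ 0).card = wt v := by
  rw [wt, ← List.toFinset_card_of_nodup ((List.nodup_finRange 6).filter _)]
  congr 1
  ext i
  simp [evV, ev_zero_iff hF hω]

end Cfsg.Agent.Hexacode
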