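import Cfsg.Prelude.Def_SporadicCombinatorics
import Cfsg.Agent.Lib.Codes.TernaryData
import Cfsg.Agent.Lib.Golay.Basic

/-! The ternary code of length twelve as 729 combinations of a systematic basis, with its hexads as masks. -/

namespace Cfsg.Agent.Ternary

open Cfsg Cfsg.Agent.Golay

/-- Bit position of a position of the array. -/
def tidx (p : ArrayPt) : ℕ := 3 * (p.1 : ℕ) + p.2.val

/-- The position with a given bit. -/
def tpt (q : ℕ) : ArrayPt := (Fin.ofNat 4 (q / 3), (q % 3 : ℕ))

theorem tidx_lt (p : ArrayPt) : tidx p < 12 := by revert p; decide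

theorem tpt_tidx : ∀ p : ArrayPt, tpt (tidx p) = p := by decide

theorem tidx_tpt : ∀ q < 12, tidx (tpt q) = q := by decide

theorem tidx_injective : Function.Injective tidx := Function.LeftInverse.injective tpt_tidx

/-- The basis of the code. -/
def gen (k : Fin 6) : ArrayPt → ZMod 3 := fun p => ((genTable.getD k []).getD (tidx p) 0 : ℕ)

/-- The information positions. -/
def inf (k : Fin 6) : ArrayPt := tpt (infoList.getD k 0)

/-- The word with given coefficients. -/
def word (a : Fin 6 → ZMod 3) : ArrayPt → ZMod 3 := fun p => ∑ k, a k * gen k p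

/-- The digits of a number. -/
def dig (n : ℕ) : Fin 6 → ZMod 3 := fun k => (n / 3 ^ (k : ℕ) : ℕ)

/-- The defining conditions of the code in decidable form. -/
def Chk (x : ArrayPt → ZMod 3) : Prop :=
  (∀ i : Fin 4, ∑ r : ZMod 3, x (i, r) = ∑ r : ZMod 3, x (0, r)) ∧
    ∀ a b : ZMod 3, ∑ i : Fin 4, x (i, a * ![0, 1, 1, 1] i + b * ![1, 0, 1, 2] i) = -∑ r : ZMod 3, x (0, r)

instance (x : ArrayPt → ZMod 3) : Decidable (Chk x) := by unfold Chk; infer_instance

theorem mem_iff_chk (x : ArrayPt → ZMod 3) : x ∈ ternaryGolayCode ↔ Chk x := by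
  constructor
  · rintro ⟨s, h1, h2⟩
    refine ⟨fun i => by rw [h1 i, h1 0], fun a b => ?_⟩
    rw [h1 0, neg_neg]
    refine h2 (fun i => a * ![0, 1, 1, 1] i + b * ![1, 0, 1, 2] i) ?_
    rw [tetracode, Submodule.mem_span_pair]
    exact ⟨a, b, rfl⟩
  · rintro ⟨h1, h2⟩
    refine ⟨-∑ r : ZMod 3, x (0, r), fun i => by rw [neg_neg, h1 i], fun t ht => ?_⟩
    rw [tetracode, Submodule.mem_span_pair] at ht
    obtain ⟨a, b, rfl⟩ := ht
    exact h2 a b

/-- The word supported outside the information positions. -/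
def fill (n : ℕ) : ArrayPt → ZMod 3 := fun p =>
  if tidx p = 5 then dig n 0 else if tidx p = 7 then dig n 1 else if tidx p = 8 then dig n 2
  else if tidx p = 9 then dig n 3 else if tidx p = 10 then dig n 4 else if tidx p = 11 then dig n 5 else 0

theorem gen_table :
    (∀ k, Chk (gen k)) ∧ (∀ k l, gen k (inf l) = if k = l then 1 else 0) ∧
    (∀ k l, ∑ p, gen k p * gen l p = 0) ∧
    (∀ q < 12, ∃ k : Fin 6, gen k (tpt q) ≠ 0 ∧ ∃ p, gen k p ≠ 0 ∧ gen 0 p ≠ 0) ∧
    (List.range 729).all (fun n => decide (n = 0) || !decide (Chk (fill n))) = true := by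
  decide +kernel

theorem gen_mem (k : Fin 6) : gen k ∈ ternaryGolayCode := (mem_iff_chk _).mpr (gen_table.1 k)

theorem word_eq (a : Fin 6 → ZMod 3) : word a = ∑ k, a k • gen k := by
  funext p; simp [word, Finset.sum_apply]

theorem word_mem (a : Fin 6 → ZMod 3) : word a ∈ ternaryGolayCode := by
  rw [word_eq]
  exact Submodule.sum_mem _ fun k _ => Submodule.smul_mem _ _ (gen_mem k)

theorem word_inf (a : Fin 6 → ZMod 3) (l : Fin 6) : word a (inf l) = a l := by
  simp [word, gen_table.2.1]

theorem exists_code (a : Fin 6 → ZMod 3) : ∃ n < 729, dig n = a := by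
  refine ⟨(a 0).val + 3 * ((a 1).val + 3 * ((a 2).val + 3 * ((a 3).val + 3 * ((a 4).val + 3 * (a 5).val)))), ?_, ?_⟩
  · have hv := fun k => ZMod.val_lt (a k)
    have := hv 0; have := hv 1; have := hv 2; have := hv 3; have := hv 4; have := hv 5
    omega
  · funext k
    apply ZMod.val_injective 3
    rw [dig, ZMod.val_natCast]
    have hv := fun k => ZMod.val_lt (a k)
    have := hv 0; have := hv 1; have := hv 2; have := hv 3; have := hv 4; have := hv 5
    fin_cases k <;> simp <;> omega

theorem eq_word {x : ArrayPt → ZMod 3} (hx : x ∈ ternaryGolayCode) : x = word fun k => x (inf k) := by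
  set a := fun k => x (inf k)
  have hy : x - word a ∈ ternaryGolayCode := sub_mem hx (word_mem a)
  set y := x - word a with hyd
  have hy0 : ∀ k, y (inf k) = 0 := fun k => by simp [hyd, word_inf, a]
  obtain ⟨n, hn, he⟩ := exists_code ![y (tpt 5), y (tpt 7), y (tpt 8), y (tpt 9), y (tpt 10), y (tpt 11)]
  have hfill : fill n = y := by
    funext p
    obtain ⟨q, hq, rfl⟩ : ∃ q < 12, tpt q = p := ⟨tidx p, tidx_lt p, tpt_tidx p⟩
    simp only [fill, he, tidx_tpt q hq]
    interval_cases q <;> simp
    exacts [(hy0 0).symm, (hy0 1).symm, (hy0 2).symm, (hy0 3).symm, (hy0 4).symm, (hy0 5).symm]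
  have h := gen_table.2.2.2.2
  rw [List.all_eq_true] at h
  have e := h n (List.mem_range.mpr hn)
  simp only [Bool.or_eq_true, decide_eq_true_eq, Bool.not_eq_true', decide_eq_false_iff_not] at e
  rcases e with e | e
  · refine sub_eq_zero.mp ?_
    show y = 0
    rw [← hfill, e]
    funext p
    simp [fill, dig]
  · exact absurd ((mem_iff_chk _).mp (hfill ▸ hy)) e

theorem exists_word {x : ArrayPt → ZMod 3} (hx : x ∈ ternaryGolayCode) : ∃ n < 729, x = word (dig n) := by
  obtain ⟨n, hn, e⟩ := exists_code fun k => x (inf k)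
  exact ⟨n, hn, by rw [e]; exact eq_word hx⟩

theorem dig_injective {m n : ℕ} (hm : m < 729) (hn : n < 729) (h : dig m = dig n) : m = n := by
  have e := fun k : Fin 6 => congrArg ZMod.val (congrFun h k)
  simp only [dig, ZMod.val_natCast] at e
  have h0 := e 0; have h1 := e 1; have h2 := e 2; have h3 := e 3; have h4 := e 4; have h5 := e 5
  clear e h
  simp at h0 h1 h2 h3 h4 h5
  omega

theorem word_dig_injective {m n : ℕ} (hm : m < 729) (hn : n < 729) (h : word (dig m) = word (dig n)) : m = n :=
  dig_injective hm hn (funext fun k => by rw [← word_inf (dig m) k, ← word_inf (dig n) k, h])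

/-! ### Masks -/

/-- The positions of a mask. -/
def mSet (m : ℕ) : Finset ArrayPt := Finset.univ.filter fun p => m.testBit (tidx p)

theorem mem_mSet {m : ℕ} {p : ArrayPt} : p ∈ mSet m ↔ m.testBit (tidx p) = true := by simp [mSet]

/-- The mask of a set of positions. -/
def tMask (s : Finset ArrayPt) : ℕ := mkMask (fun q => decide (tpt q ∈ s)) 12

theorem mSet_tMask (s : Finset ArrayPt) : mSet (tMask s) = s := by
  ext p; simp [mem_mSet, tMask, testBit_mkMask, tidx_lt, tpt_tidx]

theorem card_mSet (m : ℕ) : (mSet m).card = popCount m 12 := by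
  rw [popCount_eq]
  refine Finset.card_nbij' tidx tpt ?_ ?_ ?_ ?_
  · intro p hp
    simp [mSet] at hp
    simp [hp, tidx_lt]
  · intro q hq
    simp at hq
    simp [mSet, tidx_tpt q hq.1, hq.2]
  · intro p _
    exact tpt_tidx p
  · intro q hq
    simp at hq
    exact tidx_tpt q hq.1

theorem mSet_inj {a b : ℕ} (ha : a < 2 ^ 12) (hb : b < 2 ^ 12) (h : mSet a = mSet b) : a = b := by
  refine Nat.eq_of_testBit_eq fun i => ?_
  rcases Nat.lt_or_ge i 12 with hi | hi
  · have := congrArg (fun s => decide (tpt i ∈ s)) h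
    simpa [mem_mSet, tidx_tpt i hi] using this
  · rw [Nat.testBit_lt_two_pow (lt_of_lt_of_le ha (Nat.pow_le_pow_right (by norm_num) hi)),
      Nat.testBit_lt_two_pow (lt_of_lt_of_le hb (Nat.pow_le_pow_right (by norm_num) hi))]

/-- The mask of the support of a recorded word. -/
def wMask (n : ℕ) : ℕ := mkMask (fun q => decide (word (dig n) (tpt q) ≠ 0)) 12

theorem mSet_wMask (n : ℕ) : mSet (wMask n) = ternarySupport (word (dig n)) := by
  ext p; simp [mem_mSet, wMask, testBit_mkMask, tidx_lt, tpt_tidx, ternarySupport]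

/-- Weight of a recorded word. -/
def wgt (n : ℕ) : ℕ := popCount (wMask n) 12

theorem card_support (n : ℕ) : (ternarySupport (word (dig n))).card = wgt n := by
  rw [← mSet_wMask, card_mSet]; rfl

theorem weight_table :
    (List.range 729).all (fun n => Nat.beq n 0 || Nat.beq (wgt n) 6 && hexMasks.contains (wMask n) ||
      Nat.beq (wgt n) 9 || Nat.beq (wgt n) 12) = true ∧
    ((List.range 729).filter fun n => Nat.beq (wgt n) 6).length = 264 ∧
    ((List.range 729).filter fun n => Nat.beq (wgt n) 9).length = 440 ∧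
    ((List.range 729).filter fun n => Nat.beq (wgt n) 12).length = 24 ∧
    (List.range 132).all (fun k => decide (hexWit.getD k 729 < 729) && Nat.beq (wgt (hexWit.getD k 729)) 6 &&
      Nat.beq (wMask (hexWit.getD k 729)) (hexMasks.getD k 0)) = true ∧
    hexMasks.length = 132 ∧ hexMasks.Nodup := by
  decide +kernel

theorem hex_lt : ∀ h ∈ hexMasks, h < 2 ^ 12 := by decide +kernel

theorem steiner_table :
    (List.range 4096).all (fun m => !(Nat.beq (popCount m 12) 5) ||
      Nat.beq (hexMasks.filter fun h => Nat.beq (h &&& m) m).length 1) = true := by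
  decide +kernel

/-- The hexads of the code. -/
abbrev hexads : Set (Finset ArrayPt) :=
  {h : Finset ArrayPt | ∃ x ∈ ternaryGolayCode, ternarySupport x = h ∧ h.card = 6}

theorem mem_hexads {s : Finset ArrayPt} : s ∈ hexads ↔ ∃ h ∈ hexMasks, mSet h = s := by
  constructor
  · rintro ⟨x, hx, rfl, hc⟩
    obtain ⟨n, hn, rfl⟩ := exists_word hx
    refine ⟨wMask n, ?_, mSet_wMask n⟩
    rw [card_support] at hc
    have h := weight_table.1
    rw [List.all_eq_true] at h
    have e := h n (List.mem_range.mpr hn)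
    simp only [Bool.or_eq_true, Bool.and_eq_true, Nat.beq_eq, List.contains_eq_mem, decide_eq_true_eq, hc] at e
    rcases e with ((e | e) | e) | e
    · subst e
      exact absurd hc (by decide +kernel)
    · exact e.2
    · omega
    · omega
  · rintro ⟨h, hh, rfl⟩
    obtain ⟨k, hk, rfl⟩ := List.getElem_of_mem hh
    have e := weight_table.2.2.2.2.1
    rw [List.all_eq_true] at e
    have e' := e k (List.mem_range.mpr (weight_table.2.2.2.2.2.1 ▸ hk))
    simp only [Bool.and_eq_true, decide_eq_true_eq, Nat.beq_eq] at e'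
    rw [List.getD_eq_getElem _ _ hk] at e'
    refine ⟨word (dig (hexWit.getD k 729)), word_mem _, ?_, ?_⟩
    · rw [← mSet_wMask, e'.2]
    · rw [← e'.2, mSet_wMask, card_support, e'.1.2]

theorem card_hexad {h : ℕ} (hh : h ∈ hexMasks) : (mSet h).card = 6 := by
  obtain ⟨x, -, -, hc⟩ := mem_hexads.mpr ⟨h, hh, rfl⟩
  exact hc

theorem hexads_eq : hexads = mSet '' (hexMasks.toFinset : Set ℕ) := by
  ext s
  rw [mem_hexads]
  simp

theorem ncard_hexads : hexads.ncard = 132 := by
  rw [hexads_eq, Set.InjOn.ncard_image, Set.ncard_coe_finset, List.toFinset_card_of_nodup weight_table.2.2.2.2.2.2]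
  · exact weight_table.2.2.2.2.2.1
  · intro a ha b hb h
    simp only [List.coe_toFinset] at ha hb
    exact mSet_inj (hex_lt a ha) (hex_lt b hb) h

theorem isSteiner_hexads : IsSteinerSystem 5 6 hexads := by
  refine ⟨fun b hb => ?_, fun s hs => ?_⟩
  · obtain ⟨x, -, -, hc⟩ := hb
    exact hc
  · have h := steiner_table
    rw [List.all_eq_true] at h
    have e := h (tMask s) (List.mem_range.mpr (mkMask_lt _ _))
    rw [← card_mSet, mSet_tMask, hs] at e
    simp only [Bool.or_eq_true, Bool.not_eq_true', Nat.beq_eq] at e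
    have e1 : (hexMasks.filter fun h => Nat.beq (h &&& tMask s) (tMask s)).length = 1 := by
      rcases e with e | e
      · exact absurd e (by decide)
      · exact e
    obtain ⟨h₀, hh₀⟩ := List.length_eq_one_iff.mp e1
    have key : ∀ h ∈ hexMasks, (s ⊆ mSet h ↔ h = h₀) := by
      intro h hh
      have : h ∈ (hexMasks.filter fun h => Nat.beq (h &&& tMask s) (tMask s)) ↔ h = h₀ := by simp [hh₀]
      rw [← this, List.mem_filter, and_iff_right hh, Nat.beq_eq]
      constructor
      · intro hsub
        refine Nat.eq_of_testBit_eq fun i => ?_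
        rw [Nat.testBit_and]
        cases hm : (tMask s).testBit i
        · simp
        · simp only [Bool.and_true]
          rw [tMask, testBit_mkMask, Bool.and_eq_true, decide_eq_true_eq, decide_eq_true_eq] at hm
          have := mem_mSet.mp (hsub hm.2)
          rwa [tidx_tpt i hm.1] at this
      · intro he p hp
        rw [mem_mSet]
        have h1 : (tMask s).testBit (tidx p) = true := by
          rw [← mem_mSet, mSet_tMask]; exact hp
        rw [← he, Nat.testBit_and, Bool.and_eq_true] at h1
        exact h1.1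
    have h₀m : h₀ ∈ hexMasks := List.mem_of_mem_filter (hh₀ ▸ List.mem_singleton_self h₀)
    refine ⟨mSet h₀, ⟨mem_hexads.mpr ⟨h₀, h₀m, rfl⟩, (key h₀ h₀m).mpr rfl⟩, ?_⟩
    rintro b ⟨hb, hsb⟩
    obtain ⟨h, hh, rfl⟩ := mem_hexads.mp hb
    rw [(key h hh).mp hsb]

end Cfsg.Agent.Ternary
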