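import Cfsg.Agent.Lib.Codes.Ternary

/-! Monomial maps of the ternary code of length twelve and the automorphisms of its hexads. -/

namespace Cfsg.Agent.Ternary

open Cfsg Cfsg.Agent.Golay
open scoped Pointwise

/-- The monomial map preserves the code. -/
def Pres (σ : Equiv.Perm ArrayPt) (c : ArrayPt → (ZMod 3)ˣ) : Prop :=
  ∀ x ∈ ternaryGolayCode, monomialMap σ c x ∈ ternaryGolayCode

theorem pres_of_gen {σ : Equiv.Perm ArrayPt} {c : ArrayPt → (ZMod 3)ˣ}
    (h : ∀ k, monomialMap σ c (gen k) ∈ ternaryGolayCode) : Pres σ c := by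
  intro x hx
  rw [eq_word hx]
  have : monomialMap σ c (word fun k => x (inf k)) = ∑ k, x (inf k) • monomialMap σ c (gen k) := by
    funext p
    simp [monomialMap, word, Finset.mul_sum, Finset.sum_apply, mul_left_comm]
  rw [this]
  exact Submodule.sum_mem _ fun k _ => Submodule.smul_mem _ _ (h k)

theorem pres_one : Pres 1 fun _ => 1 := fun x hx => by
  convert hx
  funext p
  simp [monomialMap, ← Equiv.Perm.inv_def]

theorem Pres.mul {σ τ : Equiv.Perm ArrayPt} {c d : ArrayPt → (ZMod 3)ˣ} (h : Pres σ c) (h' : Pres τ d) :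
    Pres (σ * τ) fun p => c p * d (σ.symm p) := by
  intro x hx
  convert h _ (h' x hx) using 1
  funext p
  simp [monomialMap, ← Equiv.Perm.inv_def, mul_assoc]

theorem monomialMap_injective (σ : Equiv.Perm ArrayPt) (c : ArrayPt → (ZMod 3)ˣ) :
    Function.Injective (monomialMap σ c) := fun x y h => funext fun p => by
  simpa [monomialMap] using congrFun h (σ p)

theorem pres_cancel {σ τ : Equiv.Perm ArrayPt} {w d : ArrayPt → (ZMod 3)ˣ} (hw : Pres σ w)
    (h : Pres (σ * τ) fun i => w i * d (σ.symm i)) : Pres τ d := by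
  intro x hx
  let f : ternaryGolayCode → ternaryGolayCode := fun z => ⟨monomialMap σ w z, hw _ z.2⟩
  have hf : Function.Injective f := fun z z' e =>
    Subtype.ext (monomialMap_injective σ w (congrArg Subtype.val e))
  obtain ⟨z, hz⟩ := (Finite.injective_iff_surjective.mp hf) ⟨_, h x hx⟩
  have e : monomialMap σ w z = monomialMap (σ * τ) (fun i => w i * d (σ.symm i)) x := congrArg Subtype.val hz
  have : (z : ArrayPt → ZMod 3) = monomialMap τ d x := by
    refine monomialMap_injective σ w (e.trans (funext fun i => ?_))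
    simp [monomialMap, ← Equiv.Perm.inv_def, mul_assoc]
  exact this ▸ z.2

theorem diag_eq {c : ArrayPt → (ZMod 3)ˣ} (h : Pres 1 c) (p : ArrayPt) : c p = c (inf 0) := by
  have key : ∀ k p, gen k p ≠ 0 → c p = c (inf k) := by
    intro k p hp
    have h1 := h _ (gen_mem k)
    have e := congrFun (eq_word h1) p
    simp only [monomialMap, word, Equiv.Perm.one_symm, Equiv.Perm.one_apply, gen_table.2.1] at e
    rw [Finset.sum_eq_single k] at e
    · rw [if_pos rfl, mul_one] at e
      exact Units.ext (mul_right_cancel₀ hp e)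
    · intro l _ hl; simp [hl, Ne.symm hl]
    · simp
  obtain ⟨k, hk, r, hr, hr0⟩ := gen_table.2.2.2.1 (tidx p) (tidx_lt p)
  rw [tpt_tidx] at hk
  rw [key k p hk, ← key k r hr, key 0 r hr0]

theorem support_monomial (σ : Equiv.Perm ArrayPt) (c : ArrayPt → (ZMod 3)ˣ) (x : ArrayPt → ZMod 3) :
    ternarySupport (monomialMap σ c x) = (ternarySupport x).image σ := by
  ext p
  simp only [ternarySupport, monomialMap, Finset.mem_filter, Finset.mem_univ, true_and, Finset.mem_image,
    ne_eq, mul_eq_zero, Units.ne_zero, false_or]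
  exact ⟨fun h => ⟨σ.symm p, h, by simp⟩, by rintro ⟨q, hq, rfl⟩; simpa using hq⟩

theorem image_mem_of_pres {σ : Equiv.Perm ArrayPt} {c : ArrayPt → (ZMod 3)ˣ} (h : Pres σ c)
    {s : Finset ArrayPt} (hs : s ∈ hexads) : s.image σ ∈ hexads := by
  obtain ⟨x, hx, rfl, hc⟩ := hs
  exact ⟨_, h x hx, support_monomial σ c x, by rw [Finset.card_image_of_injective _ σ.injective, hc]⟩

theorem smul_finset_eq_image (σ : Equiv.Perm ArrayPt) (s : Finset ArrayPt) : σ • s = s.image σ := rfl

theorem mem_aut_iff {σ : Equiv.Perm ArrayPt} :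
    σ ∈ setSystemAut hexads ↔ ∀ s ∈ hexads, s.image σ ∈ hexads := by
  rw [MulAction.mem_stabilizer_iff]
  constructor
  · intro h s hs
    rw [← h, ← smul_finset_eq_image]
    exact Set.smul_mem_smul_set hs
  · intro h
    refine Set.eq_of_subset_of_ncard_le ?_ ?_ (Set.toFinite _)
    · rintro _ ⟨s, hs, rfl⟩
      exact h s hs
    · exact (Set.ncard_image_of_injective _ (MulAction.injective σ)).ge

theorem mem_aut_of_pres {σ : Equiv.Perm ArrayPt} {c : ArrayPt → (ZMod 3)ˣ} (h : Pres σ c) :
    σ ∈ setSystemAut hexads := mem_aut_iff.mpr fun _ hs => image_mem_of_pres h hs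

/-! ### The transversals -/

/-- Index of the witness sending the `k`-th point to the `j`-th one. -/
def tIdx (k j : ℕ) : ℕ := [0, 12, 23, 33, 42].getD k 0 + (j - k)

/-- The witness. -/
def tw (k j : ℕ) : List ℕ × List ℕ := transWit.getD (tIdx k j) ([], [])

/-- The inverse of the witness permutation. -/
def tinv (k j : ℕ) : ArrayPt → ArrayPt := fun p => tpt ((tw k j).1.getD (tidx p) 0)

/-- The scalars of the witness. -/
def tsc (k j : ℕ) : ArrayPt → ZMod 3 := fun p => ((tw k j).2.getD (tidx p) 0 : ℕ)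

theorem trans_table :
    (List.range 5).all (fun k => (List.range 12).all fun j => decide (j < k) ||
      ((tw k j).1.length == 12 && decide (tw k j).1.Nodup && (tw k j).1.all (fun x => decide (x < 12)) &&
      (tw k j).1.getD j 12 == k &&
      (List.range k).all (fun i => (tw k j).1.getD i 12 == i) &&
      (List.range 12).all (fun q => decide (tsc k j (tpt q) ≠ 0)) &&
      (List.finRange 6).all fun l => decide (Chk fun p => tsc k j p * gen l (tinv k j p)))) = true := by
  decide +kernel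

theorem exists_trans {k j : ℕ} (hk : k < 5) (hkj : k ≤ j) (hj : j < 12) :
    ∃ σ : Equiv.Perm ArrayPt, σ (tpt k) = tpt j ∧ (∀ i < k, σ (tpt i) = tpt i) ∧ ∃ c, Pres σ c := by
  have h := trans_table
  simp only [List.all_eq_true, List.mem_range] at h
  have e := h k hk j hj
  simp only [Bool.or_eq_true, decide_eq_true_eq, Nat.not_lt.mpr hkj, false_or, Bool.and_eq_true, beq_iff_eq,
    List.all_eq_true, List.mem_range, List.mem_finRange, forall_true_left] at e
  obtain ⟨⟨⟨⟨⟨⟨hlen, hnd⟩, hlt⟩, hkj'⟩, hfix⟩, hsc⟩, hchk⟩ := e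
  have hinj : Function.Injective (tinv k j) := by
    intro p q e
    have hp : tidx p < (tw k j).1.length := hlen ▸ tidx_lt p
    have hq : tidx q < (tw k j).1.length := hlen ▸ tidx_lt q
    have e' := congrArg tidx e
    simp only [tinv, List.getD_eq_getElem _ _ hp, List.getD_eq_getElem _ _ hq] at e'
    rw [tidx_tpt _ (hlt _ (List.getElem_mem hp)), tidx_tpt _ (hlt _ (List.getElem_mem hq))] at e'
    exact tidx_injective (hnd.getElem_inj_iff.mp e')
  let e := Equiv.ofBijective (tinv k j) (Finite.injective_iff_bijective.mp hinj)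
  have hap : ∀ q < 12, e (tpt q) = tpt ((tw k j).1.getD q 12) := by
    intro q hq
    show tinv k j (tpt q) = _
    rw [tinv, tidx_tpt q hq, List.getD_eq_getElem _ _ (hlen ▸ hq), List.getD_eq_getElem _ _ (hlen ▸ hq)]
  refine ⟨e.symm, ?_, fun i hi => ?_, fun p => Units.mk0 (tsc k j p) (tpt_tidx p ▸ hsc _ (tidx_lt p)),
    pres_of_gen fun l => (mem_iff_chk _).mpr (hchk l)⟩
  · rw [Equiv.symm_apply_eq, hap j hj, hkj']
  · rw [Equiv.symm_apply_eq, hap i (by omega), hfix i hi]

/-- The image of a hexad mask under a permutation given by the list of inverse images. -/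
def imgMask (L : List ℕ) (h : ℕ) : ℕ := mkMask (fun i => h.testBit (L.getD i 12)) 12

theorem fix_table :
    (hexMasks.filter fun h => Nat.beq (h &&& 31) 31) = [hex0] ∧ hex0 = 63 ∧ comp0 = [6, 7, 8, 9, 10, 11] ∧
    (comp0.permutations'.all fun L => L == comp0 ||
      hexMasks.any fun h => !hexMasks.contains (imgMask ([0, 1, 2, 3, 4, 5] ++ L) h)) = true := by
  decide +kernel

theorem imgMask_mem {σ : Equiv.Perm ArrayPt} (hσ : σ ∈ setSystemAut hexads) {h : ℕ} (hh : h ∈ hexMasks) :
    imgMask ((List.range 12).map fun q => tidx (σ.symm (tpt q))) h ∈ hexMasks := by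
  obtain ⟨h', hh', e⟩ := mem_hexads.mp (mem_aut_iff.mp hσ _ (mem_hexads.mpr ⟨h, hh, rfl⟩))
  suffices imgMask ((List.range 12).map fun q => tidx (σ.symm (tpt q))) h = h' by rw [this]; exact hh'
  refine mSet_inj (mkMask_lt _ _) (hex_lt h' hh') ?_
  rw [e]
  ext p
  have hget : ((List.range 12).map fun q => tidx (σ.symm (tpt q))).getD (tidx p) 12 = tidx (σ.symm p) := by
    rw [List.getD_eq_getElem _ _ (by simp [tidx_lt]), List.getElem_map, List.getElem_range, tpt_tidx]
  simp only [mem_mSet, imgMask, testBit_mkMask, tidx_lt, decide_true, Bool.true_and, hget, Finset.mem_image]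
  exact ⟨fun hm => ⟨σ.symm p, hm, by simp⟩, by rintro ⟨q, hq, rfl⟩; simpa using hq⟩

theorem eq_one_of_fix {σ : Equiv.Perm ArrayPt} (hσ : σ ∈ setSystemAut hexads)
    (hfix : ∀ i < 5, σ (tpt i) = tpt i) : σ = 1 := by
  set f := fun q => tidx (σ.symm (tpt q)) with hf
  set L := (List.range 12).map f with hL
  have hf5 : ∀ i < 5, f i = i := fun i hi => by
    rw [hf]; simp only
    rw [(Equiv.symm_apply_eq σ).mpr (hfix i hi).symm, tidx_tpt i (by omega)]
  have hinj : ∀ a < 12, ∀ b < 12, f a = f b → a = b := fun a ha b hb e => by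
    have := σ.symm.injective (tidx_injective e)
    rw [← tidx_tpt a ha, this, tidx_tpt b hb]
  have hget : ∀ i < 12, L.getD i 12 = f i := fun i hi => by
    rw [hL, List.getD_eq_getElem _ _ (by simpa using hi), List.getElem_map, List.getElem_range]
  have h63 : (63 : ℕ) ∈ hexMasks := by decide
  have him := imgMask_mem hσ h63
  have hbit : ∀ i < 12, (imgMask L 63).testBit i = decide (f i < 6) := fun i hi => by
    rw [imgMask, testBit_mkMask, hget i hi]
    simp only [hi, decide_true, Bool.true_and]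
    rw [show (63 : ℕ) = 2 ^ 6 - 1 by norm_num, Nat.testBit_two_pow_sub_one]
  have e63 : imgMask L 63 = 63 := by
    have hmem : imgMask L 63 ∈ hexMasks.filter fun h => Nat.beq (h &&& 31) 31 := by
      rw [List.mem_filter, Nat.beq_eq]
      refine ⟨him, Nat.eq_of_testBit_eq fun i => ?_⟩
      rw [Nat.testBit_and, show (31 : ℕ) = 2 ^ 5 - 1 by norm_num, Nat.testBit_two_pow_sub_one]
      by_cases hi : i < 5
      · rw [hbit i (by omega), hf5 i hi]
        simp [hi, show i < 6 by omega]
      · simp [hi]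
    rw [fix_table.1, List.mem_singleton, fix_table.2.1] at hmem
    exact hmem
  have h5 : f 5 = 5 := by
    have h1 := hbit 5 (by norm_num)
    rw [e63, show (63 : ℕ) = 2 ^ 6 - 1 by norm_num, Nat.testBit_two_pow_sub_one] at h1
    have h2 : f 5 < 6 := by simpa using h1.symm
    by_contra hne
    exact hne (hinj (f 5) (by omega) 5 (by norm_num) (hf5 _ (by omega))).symm.symm
  have hperm : L.drop 6 ∈ comp0.permutations' := by
    rw [List.mem_permutations', fix_table.2.2.1]
    have hnd : (L.drop 6).Nodup := (List.Nodup.map_on (fun a ha b hb e =>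
      hinj a (List.mem_range.mp ha) b (List.mem_range.mp hb) e) List.nodup_range).sublist (List.drop_sublist _ _)
    refine (List.subperm_of_subset hnd ?_).perm_of_length_le (by simp [hL])
    intro x hx
    have hmem : ∀ q, 6 ≤ q → q < 12 → f q ∈ [6, 7, 8, 9, 10, 11] := by
      intro q hq hq'
      have h1 : f q < 12 := tidx_lt _
      have h2 : ¬ f q < 6 := by
        intro hlt
        have : f (f q) = f q := by
          by_cases h : f q < 5
          · exact hf5 _ h
          · rw [show f q = 5 by omega, h5]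
        exact absurd (hinj _ (by omega) q hq' this) (by omega)
      interval_cases (f q) <;> simp
    rw [List.mem_iff_getElem] at hx
    obtain ⟨n, hn, rfl⟩ := hx
    simp only [List.getElem_drop, hL, List.getElem_map, List.getElem_range]
    simp [hL] at hn
    exact hmem _ (by omega) (by omega)
  have hLeq : L = [0, 1, 2, 3, 4, 5] ++ L.drop 6 := by
    conv_lhs => rw [← List.take_append_drop 6 L]
    congr 1
    rw [hL]
    simp [List.range_succ, hf5 0 (by norm_num), hf5 1 (by norm_num), hf5 2 (by norm_num),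
      hf5 3 (by norm_num), hf5 4 (by norm_num), h5]
  have hP := fix_table.2.2.2
  rw [List.all_eq_true] at hP
  have e := hP _ hperm
  rw [Bool.or_eq_true] at e
  rcases e with e | e
  · have hd : L.drop 6 = comp0 := beq_iff_eq.mp e
    refine Equiv.ext fun p => ?_
    have h1 : f (tidx p) = tidx p := by
      rw [← hget _ (tidx_lt p), hLeq, hd, fix_table.2.2.1]
      have := tidx_lt p
      interval_cases (tidx p) <;> rfl
    rw [hf] at h1
    simp only [tpt_tidx] at h1
    have := tidx_injective h1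
    rw [Equiv.symm_apply_eq] at this
    simpa using this.symm
  · rw [List.any_eq_true] at e
    obtain ⟨h, hh, e⟩ := e
    rw [← hLeq] at e
    simp at e
    exact absurd (imgMask_mem hσ hh) e

/-- Automorphisms fixing the first `k` points. -/
def Fix (k : ℕ) : Subgroup (Equiv.Perm ArrayPt) where
  carrier := {σ | σ ∈ setSystemAut hexads ∧ ∀ i < k, σ (tpt i) = tpt i}
  one_mem' := ⟨one_mem _, fun _ _ => rfl⟩
  mul_mem' := fun {a b} ha hb => ⟨mul_mem ha.1 hb.1, fun i hi => by
    rw [Equiv.Perm.mul_apply, hb.2 i hi, ha.2 i hi]⟩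
  inv_mem' := fun {a} ha => ⟨inv_mem ha.1, fun i hi => by
    rw [Equiv.Perm.inv_def, Equiv.symm_apply_eq, ha.2 i hi]⟩

theorem fix_five : Fix 5 = ⊥ := (Subgroup.eq_bot_iff_forall _).mpr fun _ h => eq_one_of_fix h.1 h.2

theorem image_ge {k : ℕ} (hk : k < 12) {σ : Equiv.Perm ArrayPt} (h : σ ∈ Fix k) : k ≤ tidx (σ (tpt k)) := by
  by_contra hlt
  push Not at hlt
  have e : σ (tpt k) = σ (tpt (tidx (σ (tpt k)))) := by rw [h.2 _ hlt, tpt_tidx]
  have := congrArg tidx (σ.injective e)
  rw [tidx_tpt k hk, tidx_tpt _ (by omega)] at this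
  omega

/-- The chosen transversal element. -/
noncomputable def tr (k : ℕ) (j : Fin (12 - k)) : Equiv.Perm ArrayPt :=
  if hk : k < 5 then (exists_trans hk (show k ≤ k + j by omega) (show k + (j : ℕ) < 12 by omega)).choose else 1

theorem tr_spec {k : ℕ} (hk : k < 5) (j : Fin (12 - k)) :
    tr k j (tpt k) = tpt (k + j) ∧ tr k j ∈ Fix k ∧ ∃ c, Pres (tr k j) c := by
  have h := (exists_trans hk (show k ≤ k + (j : ℕ) by omega) (show k + (j : ℕ) < 12 by omega)).choose_spec
  rw [tr, dif_pos hk]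
  obtain ⟨h1, h2, c, h3⟩ := h
  exact ⟨h1, ⟨mem_aut_of_pres h3, h2⟩, c, h3⟩

theorem decomp {k : ℕ} (hk : k < 5) {σ : Equiv.Perm ArrayPt} (h : σ ∈ Fix k) :
    ∃ j : Fin (12 - k), (tr k j)⁻¹ * σ ∈ Fix (k + 1) := by
  have hj := image_ge (by omega) h
  have hlt := tidx_lt (σ (tpt k))
  refine ⟨⟨tidx (σ (tpt k)) - k, by omega⟩, ?_⟩
  obtain ⟨h1, h2, -⟩ := tr_spec hk ⟨tidx (σ (tpt k)) - k, by omega⟩
  have hm := (Fix k).mul_mem ((Fix k).inv_mem h2) h
  refine ⟨hm.1, fun i hi => ?_⟩
  rcases Nat.lt_or_ge i k with hik | hik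
  · exact hm.2 i hik
  · obtain rfl : i = k := by omega
    rw [Equiv.Perm.mul_apply, Equiv.Perm.inv_def, Equiv.symm_apply_eq, h1]
    show σ (tpt i) = tpt (i + (tidx (σ (tpt i)) - i))
    rw [Nat.add_sub_cancel' hj, tpt_tidx]

theorem card_fix_succ {k : ℕ} (hk : k < 5) : Nat.card (Fix k) = (12 - k) * Nat.card (Fix (k + 1)) := by
  let F : Fin (12 - k) × Fix (k + 1) → Fix k := fun p =>
    ⟨tr k p.1 * p.2, (Fix k).mul_mem (tr_spec hk p.1).2.1 ⟨p.2.2.1, fun i hi => p.2.2.2 i (by omega)⟩⟩
  have hF : Function.Bijective F := by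
    refine ⟨fun p q e => ?_, fun σ => ?_⟩
    · have e' : tr k p.1 * p.2 = tr k q.1 * q.2 := congrArg Subtype.val e
      have h1 := congrArg (fun σ : Equiv.Perm ArrayPt => tidx (σ (tpt k))) e'
      simp only [Equiv.Perm.mul_apply, p.2.2.2 k (by omega), q.2.2.2 k (by omega), (tr_spec hk p.1).1,
        (tr_spec hk q.1).1] at h1
      rw [tidx_tpt _ (by omega), tidx_tpt _ (by omega)] at h1
      have hj : p.1 = q.1 := Fin.ext (by omega)
      rw [hj] at e'
      exact Prod.ext hj (Subtype.ext (mul_left_cancel e'))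
    · obtain ⟨j, hj⟩ := decomp hk σ.2
      exact ⟨(j, ⟨_, hj⟩), Subtype.ext (mul_inv_cancel_left _ _)⟩
  rw [← Nat.card_eq_of_bijective F hF, Nat.card_prod, Nat.card_fin]

theorem fix_zero : Fix 0 = setSystemAut hexads := by
  ext σ
  exact ⟨fun h => h.1, fun h => ⟨h, fun i hi => absurd hi (Nat.not_lt_zero i)⟩⟩

theorem card_aut : Nat.card (setSystemAut hexads) = 95040 := by
  rw [← fix_zero, card_fix_succ (by norm_num : 0 < 5), card_fix_succ (by norm_num : 0 + 1 < 5),
    card_fix_succ (by norm_num : 0 + 1 + 1 < 5), card_fix_succ (by norm_num : 0 + 1 + 1 + 1 < 5),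
    card_fix_succ (by norm_num : 0 + 1 + 1 + 1 + 1 < 5), show 0 + 1 + 1 + 1 + 1 + 1 = 5 by rfl, fix_five,
    Subgroup.card_bot]

theorem exists_pres {σ : Equiv.Perm ArrayPt} (h : σ ∈ setSystemAut hexads) : ∃ c, Pres σ c := by
  suffices ∀ n k, k + n = 5 → ∀ σ ∈ Fix k, ∃ c, Pres σ c from this 5 0 rfl σ (fix_zero ▸ h)
  intro n
  induction n with
  | zero =>
    intro k hk σ hσ
    obtain rfl : k = 5 := by omega
    rw [fix_five, Subgroup.mem_bot] at hσ
    exact ⟨_, hσ ▸ pres_one⟩
  | succ n ih =>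
    intro k hk σ hσ
    obtain ⟨j, hj⟩ := decomp (by omega) hσ
    obtain ⟨c, hc⟩ := (tr_spec (show k < 5 by omega) j).2.2
    obtain ⟨d, hd⟩ := ih (k + 1) (by omega) _ hj
    have := hc.mul hd
    rw [mul_inv_cancel_left] at this
    exact ⟨_, this⟩

end Cfsg.Agent.Ternary
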